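import Groth.Agent.Lib.GrSeg.Std
import Groth.Agent.Lib.VarDim.Alg
import Mathlib.RingTheory.GradedAlgebra.Radical
import Mathlib.RingTheory.Jacobson.Artinian
import Mathlib.RingTheory.Ideal.MinimalPrime.Noetherian

/-!
# Homogeneous Noether normalization
-/

universe u

noncomputable section

set_option linter.unusedSectionVars false

namespace Groth.Agent.GrSegLib

section Avoid

variable {A : Type u} [CommRing A] {σ : Type*} [SetLike σ A] [AddSubgroupClass σ A]
  (𝒜 : ℤ → σ) [GradedRing 𝒜]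

/-- The irrelevant ideal. -/
def plus : Ideal A := Ideal.span (⋃ n ∈ Set.Ioi (0 : ℤ), (𝒜 n : Set A))

theorem mem_plus {n : ℕ} (hn : 0 < n) {x : A} (hx : x ∈ 𝒜 (n : ℤ)) : x ∈ plus 𝒜 :=
  Ideal.subset_span (Set.mem_biUnion (show (n : ℤ) ∈ Set.Ioi (0 : ℤ) from Set.mem_Ioi.2 (by omega)) hx)

theorem exists_pos_notMem {P : Ideal A} (h : ¬ plus 𝒜 ≤ P) : ∃ n : ℕ, 0 < n ∧ ∃ x ∈ 𝒜 (n : ℤ), x ∉ P := by
  by_contra hc
  push Not at hc
  refine h (Ideal.span_le.2 fun x hx => ?_)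
  obtain ⟨n, hn, hx⟩ := Set.mem_iUnion₂.1 hx
  obtain ⟨m, rfl⟩ := Int.eq_ofNat_of_zero_le (show (0 : ℤ) ≤ n from le_of_lt hn)
  exact hc m (by exact_mod_cast (Set.mem_Ioi.1 hn)) x hx

/-- A prime not containing the irrelevant ideal misses some homogeneous element lying in given homogeneous ideals. -/
theorem exists_pos_mem_notMem {P : Ideal A} (hP : P.IsPrime) (hPplus : ¬ plus 𝒜 ≤ P) (s : Finset (Ideal A))
    (hs : ∀ Q ∈ s, Q.IsHomogeneous 𝒜 ∧ ¬ Q ≤ P) :
    ∃ n : ℕ, 0 < n ∧ ∃ x ∈ 𝒜 (n : ℤ), x ∉ P ∧ ∀ Q ∈ s, x ∈ Q := by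
  classical
  obtain ⟨m, hm, z, hz, hzP⟩ := exists_pos_notMem 𝒜 hPplus
  have key : ∀ t ⊆ s, ∃ (d : ℤ) (x : A), x ∈ 𝒜 d ∧ x ∉ P ∧ ∀ Q ∈ t, x ∈ Q := by
    intro t
    induction t using Finset.induction with
    | empty => exact fun _ => ⟨0, 1, SetLike.one_mem_graded 𝒜, fun h => hP.ne_top ((Ideal.eq_top_iff_one P).2 h), by simp⟩
    | insert Q t hQ ih =>
      intro hts
      obtain ⟨d, x, hx, hxP, hxt⟩ := ih ((Finset.subset_insert Q t).trans hts)
      obtain ⟨hQh, hQP⟩ := hs Q (hts (Finset.mem_insert_self Q t))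
      obtain ⟨y, hyQ, hyP⟩ := SetLike.not_le_iff_exists.1 hQP
      obtain ⟨e, he⟩ : ∃ e, (DirectSum.decompose 𝒜 y e : A) ∉ P := by
        by_contra h
        push Not at h
        refine hyP ?_
        rw [← DirectSum.sum_support_decompose 𝒜 y]
        exact Submodule.sum_mem _ fun e _ => h e
      refine ⟨d + e, x * _, SetLike.mul_mem_graded hx (DirectSum.decompose 𝒜 y e).2,
        fun h => (hP.mem_or_mem h).elim hxP he, fun Q' hQ' => ?_⟩
      rcases Finset.mem_insert.1 hQ' with rfl | hQ'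
      · exact Ideal.mul_mem_left _ _ (hQh e hyQ)
      · exact Ideal.mul_mem_right _ _ (hxt Q' hQ')
  obtain ⟨d, x, hx, hxP, hxs⟩ := key s le_rfl
  let N : ℕ := d.natAbs + 1
  have hdeg : d + N • (m : ℤ) = (((d + N • (m : ℤ)).toNat : ℕ) : ℤ) ∧ 0 < (d + N • (m : ℤ)).toNat := by
    have h1 : (1 : ℤ) ≤ m := by exact_mod_cast hm
    have : (N : ℤ) ≤ N • (m : ℤ) := by
      rw [nsmul_eq_mul]; exact le_mul_of_one_le_right (by positivity) h1
    have hN : (N : ℤ) = |d| + 1 := by simp [N]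
    have h2 : -|d| ≤ d := neg_abs_le d
    constructor <;> omega
  refine ⟨_, hdeg.2, x * z ^ N, hdeg.1 ▸ SetLike.mul_mem_graded hx (SetLike.pow_mem_graded N hz),
    fun h => (hP.mem_or_mem h).elim hxP fun h => hzP (hP.mem_of_pow_mem _ h),
    fun Q hQ => Ideal.mul_mem_right _ _ (hxs Q hQ)⟩

/-- Homogeneous prime avoidance for an antichain. -/
theorem exists_pos_notMem_all (s : Finset (Ideal A))
    (hs : ∀ P ∈ s, P.IsPrime ∧ P.IsHomogeneous 𝒜 ∧ ¬ plus 𝒜 ≤ P)
    (hanti : IsAntichain (· ≤ ·) (s : Set (Ideal A))) :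
    ∃ n : ℕ, 0 < n ∧ ∃ x ∈ 𝒜 (n : ℤ), x ∈ plus 𝒜 ∧ ∀ P ∈ s, x ∉ P := by
  classical
  rcases s.eq_empty_or_nonempty with rfl | hne
  · exact ⟨1, one_pos, 0, zero_mem _, Submodule.zero_mem _, by simp⟩
  suffices h : ∃ n : ℕ, 0 < n ∧ ∃ x ∈ 𝒜 (n : ℤ), ∀ P ∈ s, x ∉ P by
    obtain ⟨n, hn, x, hx, h⟩ := h
    exact ⟨n, hn, x, hx, mem_plus 𝒜 hn hx, h⟩
  induction hne using Finset.Nonempty.cons_induction with
  | singleton P =>
    obtain ⟨n, hn, x, hx, hxP⟩ := exists_pos_notMem 𝒜 (hs P (Finset.mem_singleton_self P)).2.2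
    exact ⟨n, hn, x, hx, by simpa using hxP⟩
  | cons P t hP ht ih =>
    have hts : t ⊆ Finset.cons P t hP := Finset.subset_cons hP
    obtain ⟨n, hn, x, hx, hxt⟩ := ih (fun Q hQ => hs Q (hts hQ)) (hanti.subset (by exact_mod_cast hts))
    by_cases hxP : x ∈ P
    · obtain ⟨hPp, -, hPplus⟩ := hs P (Finset.mem_cons_self P t)
      obtain ⟨m, hm, y, hy, hyP, hyt⟩ := exists_pos_mem_notMem 𝒜 hPp hPplus t fun Q hQ =>
        ⟨(hs Q (hts hQ)).2.1, hanti (Finset.mem_coe.2 (hts hQ)) (Finset.mem_coe.2 (Finset.mem_cons_self P t))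
          fun e => hP (e ▸ hQ)⟩
      refine ⟨m * n, Nat.mul_pos hm hn, x ^ m + y ^ n, add_mem ?_ ?_, fun Q hQ h => ?_⟩
      · have := SetLike.pow_mem_graded m hx
        rwa [show m • (n : ℤ) = ((m * n : ℕ) : ℤ) by simp] at this
      · have := SetLike.pow_mem_graded n hy
        rwa [show n • (m : ℤ) = ((m * n : ℕ) : ℤ) by simp [mul_comm]] at this
      rcases Finset.mem_cons.1 hQ with rfl | hQ
      · exact hyP (hPp.mem_of_pow_mem n ((Q.add_mem_iff_right (Ideal.pow_mem_of_mem Q hxP m hm)).1 h))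
      · exact hxt Q hQ ((hs Q (hts hQ)).1.mem_of_pow_mem m
          ((Q.add_mem_iff_left (Ideal.pow_mem_of_mem Q (hyt Q hQ) n hn)).1 h))
    · exact ⟨n, hn, x, hx, fun Q hQ => (Finset.mem_cons.1 hQ).elim (fun e => e ▸ hxP) (hxt Q)⟩

theorem minimalPrimes_isHomogeneous {J P : Ideal A} (hJ : J.IsHomogeneous 𝒜) (hP : P ∈ J.minimalPrimes) :
    P.IsHomogeneous 𝒜 := by
  have h1 : (P.homogeneousCore 𝒜).toIdeal.IsPrime := hP.1.1.homogeneousCore
  have h2 : J ≤ (P.homogeneousCore 𝒜).toIdeal := by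
    rw [← hJ.toIdeal_homogeneousCore_eq_self]
    exact Ideal.homogeneousCore_mono 𝒜 hP.1.2
  rw [← le_antisymm (Ideal.toIdeal_homogeneousCore_le 𝒜 P) (hP.2 ⟨h1, h2⟩ (Ideal.toIdeal_homogeneousCore_le 𝒜 P))]
  exact HomogeneousIdeal.isHomogeneous _

end Avoid

variable {k : Type u} [Field k] {R : Type u} [CommRing R] [Algebra k R]
  (𝒜 : ℤ → Submodule k R) [GradedAlgebra 𝒜]
  (hpos : ∀ n : ℤ, n < 0 → 𝒜 n = ⊥) (h0 : 𝒜 0 = Submodule.span k {(1 : R)})

include hpos in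
theorem sub_pr_zero_mem_plus (x : R) : x - pr 𝒜 𝒜 0 x ∈ plus 𝒜 := by
  induction x using DirectSum.Decomposition.inductionOn 𝒜 with
  | zero => simp
  | @homogeneous n y =>
    rcases lt_trichotomy n 0 with h | rfl | h
    · have hy : (y : R) = 0 := (Submodule.mem_bot k).1 (hpos n h ▸ y.2)
      simp [hy]
    · rw [pr_of_mem 𝒜 𝒜 y.2, sub_self]; exact Submodule.zero_mem _
    · rw [pr_of_mem_ne 𝒜 𝒜 y.2 h.ne', sub_zero]
      exact Ideal.subset_span (Set.mem_biUnion (Set.mem_Ioi.2 h) y.2)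
  | add a b ha hb => rw [map_add, add_sub_add_comm]; exact Submodule.add_mem _ ha hb

include hpos h0 in
theorem le_plus_of_isHomogeneous {P : Ideal R} (hP : P.IsHomogeneous 𝒜) (hne : P ≠ ⊤) : P ≤ plus 𝒜 := by
  classical
  intro x hx
  rw [← DirectSum.sum_support_decompose 𝒜 x]
  refine Submodule.sum_mem _ fun n _ => ?_
  rcases lt_trichotomy n 0 with h | rfl | h
  · have h' : (DirectSum.decompose 𝒜 x n : R) = 0 := (Submodule.mem_bot k).1 (hpos n h ▸ (DirectSum.decompose 𝒜 x n).2)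
    rw [h']
    exact Submodule.zero_mem _
  · obtain ⟨c, hc⟩ := Submodule.mem_span_singleton.1
      (h0 ▸ (DirectSum.decompose 𝒜 x 0).2 : (DirectSum.decompose 𝒜 x 0 : R) ∈ Submodule.span k {(1 : R)})
    rcases eq_or_ne c 0 with rfl | hc0
    · rw [← hc, zero_smul]; exact Submodule.zero_mem _
    · refine absurd (Ideal.eq_top_of_isUnit_mem P (hP 0 hx) ?_) hne
      rw [← hc, Algebra.smul_def, mul_one]
      exact (Ne.isUnit hc0).map _
  · exact Ideal.subset_span (Set.mem_biUnion (Set.mem_Ioi.2 h) (DirectSum.decompose 𝒜 x n).2)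

variable [Algebra.FiniteType k R]

include hpos h0 in
theorem exists_plus_le_radical : ∀ (m : ℕ) (J : Ideal R), J.IsHomogeneous 𝒜 →
    ringKrullDim (R ⧸ J) ≤ m → ∃ s : Finset R, s.card ≤ m ∧
      (∀ x ∈ s, ∃ n : ℕ, 0 < n ∧ x ∈ 𝒜 (n : ℤ)) ∧ plus 𝒜 ≤ (J ⊔ Ideal.span (s : Set R)).radical := by
  classical
  have : IsNoetherianRing R := Algebra.FiniteType.isNoetherianRing k R
  intro m
  induction m with
  | zero =>
    intro J hJ hdim
    refine ⟨∅, le_rfl, by simp, ?_⟩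
    simp only [Finset.coe_empty, Ideal.span_empty, sup_bot_eq, ← Ideal.sInf_minimalPrimes]
    refine le_sInf fun P hP => ?_
    have hPh := minimalPrimes_isHomogeneous 𝒜 hJ hP
    have hle : P ≤ plus 𝒜 := le_plus_of_isHomogeneous 𝒜 hpos h0 hPh hP.1.1.ne_top
    have hmax : P.IsMaximal := by
      have : Nontrivial (R ⧸ J) :=
        Ideal.Quotient.nontrivial_iff.2 fun h => hP.1.1.ne_top (eq_top_iff.2 (h.ge.trans hP.1.2))
      have : Ring.KrullDimLE 0 (R ⧸ J) := (Ring.krullDimLE_iff).2 hdim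
      have hPq : (P.map (Ideal.Quotient.mk J)).IsPrime :=
        Ideal.map_isPrime_of_surjective (H := hP.1.1) Ideal.Quotient.mk_surjective (by rw [Ideal.mk_ker]; exact hP.1.2)
      have := Ideal.comap_isMaximal_of_surjective (Ideal.Quotient.mk J) Ideal.Quotient.mk_surjective
        (K := P.map (Ideal.Quotient.mk J)) (H := hPq.isMaximal')
      rwa [Ideal.comap_map_of_surjective _ Ideal.Quotient.mk_surjective, ← RingHom.ker_eq_comap_bot,
        Ideal.mk_ker, sup_eq_left.2 hP.1.2] at this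
    by_cases htop : plus 𝒜 = ⊤
    · exfalso
      have h1 : (1 : R) ∈ plus 𝒜 := htop ▸ Submodule.mem_top
      have hz : ∀ x ∈ plus 𝒜, pr 𝒜 𝒜 0 x = 0 := by
        intro x hx
        refine Submodule.span_induction (p := fun x _ => ∀ r : R, pr 𝒜 𝒜 0 (r * x) = 0) ?_ (by simp)
          (fun a b _ _ ha hb r => by rw [mul_add, map_add, ha, hb, add_zero])
          (fun c a _ ha r => by rw [smul_eq_mul, ← mul_assoc]; exact ha _) hx 1 |> fun h => by rwa [one_mul] at h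
        intro u hu r
        obtain ⟨i, hi, hu⟩ := Set.mem_iUnion₂.1 hu
        rw [mul_comm, show (0 : ℤ) = i + (-i) by ring, ← smul_eq_mul u r, pr_smul 𝒜 𝒜 (-i) hu]
        have := pr_mem 𝒜 𝒜 (-i) r
        rw [hpos (-i) (by simp only [Set.mem_Ioi] at hi; omega), Submodule.mem_bot] at this
        rw [this, smul_zero]
      have h10 := hz 1 h1
      rw [pr_of_mem 𝒜 𝒜 (SetLike.one_mem_graded 𝒜)] at h10
      exact hP.1.1.ne_top ((Ideal.eq_top_iff_one P).2 (h10 ▸ P.zero_mem))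
    · exact (hmax.eq_of_le htop hle).ge
  | succ m ih =>
    intro J hJ hdim
    by_cases hrad : plus 𝒜 ≤ J.radical
    · exact ⟨∅, Nat.zero_le _, by simp, by simpa using hrad⟩
    have hfin := J.finite_minimalPrimes_of_isNoetherianRing R
    have hnot : ∀ P ∈ J.minimalPrimes, ¬ plus 𝒜 ≤ P := fun P hP hle => hrad (by
      rw [← Ideal.sInf_minimalPrimes]
      refine le_sInf fun Q hQ => ?_
      have := hQ.1.1
      have hQle := (le_plus_of_isHomogeneous 𝒜 hpos h0 (minimalPrimes_isHomogeneous 𝒜 hJ hQ) hQ.1.1.ne_top).trans hle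
      exact hle.trans (hP.2 hQ.1 hQle))
    obtain ⟨n, hn, x, hx, -, hxall⟩ := exists_pos_notMem_all 𝒜 hfin.toFinset
      (fun P hP => ⟨(hfin.mem_toFinset.1 hP).1.1, minimalPrimes_isHomogeneous 𝒜 hJ (hfin.mem_toFinset.1 hP),
        hnot P (hfin.mem_toFinset.1 hP)⟩)
      (by rw [hfin.coe_toFinset]; exact setOfPred_minimal_antichain _)
    have hJ' : (J ⊔ Ideal.span {x}).IsHomogeneous 𝒜 :=
      hJ.sup (Ideal.homogeneous_span 𝒜 _ fun y hy => ⟨n, Set.mem_singleton_iff.1 hy ▸ hx⟩)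
    have hdim' : ringKrullDim (R ⧸ (J ⊔ Ideal.span {x})) ≤ m := by
      rw [ringKrullDim_quotient]
      refine iSup_le fun l => ?_
      let h := l.head.1
      have hJh : J ≤ h.asIdeal := fun y hy => l.head.2 (Ideal.mem_sup_left hy)
      obtain ⟨P, hP, hPh⟩ := Ideal.exists_minimalPrimes_le hJh
      let p : PrimeSpectrum.zeroLocus (J : Set R) := ⟨⟨P, hP.1.1⟩, hP.1.2⟩
      let l' : LTSeries (PrimeSpectrum.zeroLocus (J : Set R)) :=
        l.map (fun q => ⟨q.1, fun y hy => q.2 (Ideal.mem_sup_left hy)⟩) fun a b hab => hab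
      have hlt : p < l'.head := by
        rw [LTSeries.head_map]
        refine lt_of_le_of_ne (show p.1.asIdeal ≤ h.asIdeal from hPh) fun e => ?_
        refine hxall P (hfin.mem_toFinset.2 hP) ?_
        have e' : P = h.asIdeal := congrArg (fun q : PrimeSpectrum.zeroLocus (J : Set R) => q.1.asIdeal) e
        rw [e']
        exact l.head.2 (Ideal.mem_sup_right (Ideal.mem_span_singleton_self x))
      have h3 := Order.LTSeries.length_le_krullDim (l'.cons p hlt)
      rw [← ringKrullDim_quotient] at h3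
      have h4 := h3.trans hdim
      have h5 : (l'.cons p hlt).length ≤ m + 1 := by exact_mod_cast h4
      have h6 : l.length ≤ m := by simpa [RelSeries.cons, RelSeries.append, l'] using h5
      exact_mod_cast h6
    obtain ⟨s, hs, hshom, hle⟩ := ih _ hJ' hdim'
    refine ⟨insert x s, (Finset.card_insert_le x s).trans (by omega), fun y hy => ?_, ?_⟩
    · rcases Finset.mem_insert.1 hy with rfl | hy
      · exact ⟨n, hn, hx⟩
      · exact hshom y hy
    · refine hle.trans (Ideal.radical_mono ?_)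
      rw [Finset.coe_insert, Ideal.span_insert, sup_assoc]

/-- Homogeneous components of representatives of a finite quotient generate everything. -/
theorem exists_bound {r : ℕ} {d : ℕ} (hd : 0 < d) (f : Fin r → R) (hf : ∀ i, f i ∈ 𝒜 (d : ℤ))
    (hrad : plus 𝒜 ≤ (Ideal.span (Set.range f)).radical)
    (hpos : ∀ n : ℤ, n < 0 → 𝒜 n = ⊥) (h0 : 𝒜 0 = Submodule.span k {(1 : R)}) :
    ∃ (s : Finset R) (N : ℕ), (∀ n : ℤ, 𝒜 n ≤ Submodule.span k (pr 𝒜 𝒜 n '' (s : Set R)) ⊔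
      Submodule.span k {z | ∃ i, ∃ v ∈ 𝒜 (n - d), z = f i * v}) ∧
      ∀ n : ℤ, (N : ℤ) < n → ∀ b ∈ s, pr 𝒜 𝒜 n b = 0 := by
  classical
  let I := Ideal.span (Set.range f)
  have : IsNoetherianRing R := Algebra.FiniteType.isNoetherianRing k R
  have hplus : ∀ P : Ideal R, P.IsPrime → I ≤ P → plus 𝒜 ≤ P := fun P hP hle =>
    hrad.trans ((Ideal.IsPrime.radical_le_iff hP).2 hle)
  have hmax : (plus 𝒜).IsMaximal ∨ plus 𝒜 = ⊤ := by
    by_cases h : plus 𝒜 = ⊤
    · exact .inr h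
    refine .inl (Ideal.isMaximal_iff.2 ⟨fun h1 => h ((Ideal.eq_top_iff_one _).2 h1), fun J x hJ hx hxJ => ?_⟩)
    have hx0 : ∃ c : k, x - algebraMap k R c ∈ plus 𝒜 := by
      obtain ⟨c, hc⟩ := Submodule.mem_span_singleton.1
        (h0 ▸ pr_mem 𝒜 𝒜 0 x : pr 𝒜 𝒜 0 x ∈ Submodule.span k {(1 : R)})
      refine ⟨c, ?_⟩
      rw [← mul_one (algebraMap k R c), ← Algebra.smul_def, hc]
      exact sub_pr_zero_mem_plus 𝒜 hpos x
    obtain ⟨c, hc⟩ := hx0
    rcases eq_or_ne c 0 with rfl | hc0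
    · simp at hc; exact absurd hc hx
    · have : algebraMap k R c ∈ J := by
        have := J.sub_mem hxJ (hJ hc); rwa [sub_sub_cancel] at this
      have := J.mul_mem_left (algebraMap k R c⁻¹) this
      rwa [← map_mul, inv_mul_cancel₀ hc0, map_one] at this
  have hdim0 : Ring.KrullDimLE 0 (R ⧸ I) := Ring.KrullDimLE.mk₀ fun P hP => by
    have hPc : plus 𝒜 ≤ P.comap (Ideal.Quotient.mk I) := hplus _ inferInstance (fun y hy => by
      rw [Ideal.mem_comap, Ideal.Quotient.eq_zero_iff_mem.2 hy]; exact P.zero_mem)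
    rcases hmax with h | h
    · have hm : (P.comap (Ideal.Quotient.mk I)).IsMaximal := h.eq_of_le
        (Ideal.IsPrime.ne_top inferInstance) hPc ▸ h
      have := (Ideal.map_eq_top_or_isMaximal_of_surjective (Ideal.Quotient.mk I) Ideal.Quotient.mk_surjective hm)
      rw [Ideal.map_comap_of_surjective _ Ideal.Quotient.mk_surjective] at this
      exact this.resolve_left hP.ne_top
    · exact absurd (eq_top_iff.2 (h.ge.trans hPc)) (Ideal.IsPrime.ne_top inferInstance)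
  have hfinite : Module.Finite k (R ⧸ I) := (Module.finite_iff_krullDimLE_zero k (R ⧸ I)).2 hdim0
  obtain ⟨t, ht⟩ := hfinite.fg_top
  choose b hb using fun y : R ⧸ I => Ideal.Quotient.mk_surjective y
  let s : Finset R := t.image b
  let supp : Finset ℤ := s.biUnion fun z => (DirectSum.decompose 𝒜 z).support
  refine ⟨s, (supp.sup fun n => n.toNat), fun n z hz => ?_, fun n hn z hz => ?_⟩
  · have hmem : Ideal.Quotient.mk I z ∈ Submodule.span k (t : Set (R ⧸ I)) := by rw [ht]; exact Submodule.mem_top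
    obtain ⟨c, -, hc⟩ := Submodule.mem_span_finset.1 hmem
    have hdiff : z - ∑ y ∈ t, c y • b y ∈ I := by
      rw [← Ideal.Quotient.eq_zero_iff_mem, map_sub, map_sum, ← hc, sub_eq_zero]
      refine Finset.sum_congr rfl fun y _ => ?_
      rw [Algebra.smul_def, Algebra.smul_def, map_mul, hb]
      rfl
    obtain ⟨g, hg⟩ := Ideal.mem_span_range_iff_exists_fun.1 hdiff
    have hz' : z = pr 𝒜 𝒜 n (∑ y ∈ t, c y • b y) + pr 𝒜 𝒜 n (∑ i, g i * f i) := by
      rw [← map_add, hg, add_sub_cancel, pr_of_mem 𝒜 𝒜 hz]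
    rw [hz']
    refine Submodule.add_mem_sup ?_ ?_
    · rw [map_sum]
      refine Submodule.sum_mem _ fun y hy => ?_
      rw [map_smul]
      exact Submodule.smul_mem _ _ (Submodule.subset_span ⟨b y, Finset.mem_coe.2 (Finset.mem_image_of_mem b hy), rfl⟩)
    · rw [map_sum]
      refine Submodule.sum_mem _ fun i _ => Submodule.subset_span ⟨i, pr 𝒜 𝒜 (n - d) (g i), pr_mem 𝒜 𝒜 _ _, ?_⟩
      rw [mul_comm (g i), ← smul_eq_mul (f i) (g i), show n = (d : ℤ) + (n - d) by ring, pr_smul 𝒜 𝒜 (n - d) (hf i),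
        smul_eq_mul, show (d : ℤ) + (n - d) - d = n - d by ring]
  · change (DirectSum.decompose 𝒜 z n : R) = 0
    by_contra h
    have h1 : n ∈ supp := Finset.mem_biUnion.2 ⟨z, hz, DFinsupp.mem_support_iff.2 fun e => h (by rw [e]; rfl)⟩
    have h2 := Finset.le_sup (f := fun n : ℤ => n.toNat) h1
    have h3 : n.toNat ≤ supp.sup fun n : ℤ => n.toNat := h2
    omega

/-- Graded pieces are finite-dimensional. -/
theorem piece_fg {r d : ℕ} (hd : 0 < d) {f : Fin r → R} {s : Finset R}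
    (hpos : ∀ n : ℤ, n < 0 → 𝒜 n = ⊥)
    (h : ∀ n : ℤ, 𝒜 n ≤ Submodule.span k (pr 𝒜 𝒜 n '' (s : Set R)) ⊔
      Submodule.span k {z | ∃ i, ∃ v ∈ 𝒜 (n - d), z = f i * v}) (n : ℤ) : (𝒜 n).FG := by
  classical
  suffices ∀ m : ℕ, ∀ n : ℤ, n < m → (𝒜 n).FG from this (n.toNat + 1) n (by omega)
  intro m
  induction m with
  | zero => intro n hn; rw [hpos n (by simpa using hn)]; exact Submodule.fg_bot
  | succ m ih =>
    intro n hn
    have hle : 𝒜 n ≤ Submodule.span k (pr 𝒜 𝒜 n '' (s : Set R)) ⊔ ⨆ i, (𝒜 (n - d)).map (LinearMap.mulLeft k (f i)) :=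
      (h n).trans (sup_le_sup_left (Submodule.span_le.2 fun z hz => by
        obtain ⟨i, v, hv, e⟩ := hz
        exact Submodule.mem_iSup_of_mem i ⟨v, hv, e.symm⟩) _)
    have hfg : (Submodule.span k (pr 𝒜 𝒜 n '' (s : Set R)) ⊔ ⨆ i, (𝒜 (n - d)).map (LinearMap.mulLeft k (f i))).FG := by
      refine Submodule.FG.sup ?_ (Submodule.fg_iSup _ fun i => (ih (n - d) (by omega)).map _)
      rw [← Finset.coe_image]
      exact ⟨_, rfl⟩
    have := (Submodule.fg_iff_finiteDimensional _).1 hfg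
    exact (Submodule.fg_iff_finiteDimensional _).2 (Submodule.finiteDimensional_of_le hle)

include hpos h0 in
/-- Homogeneous Noether normalization with all parameters of one degree. -/
theorem exists_noether_homogeneous {r : ℕ} (hr : ringKrullDim R = r) :
    ∃ (d : ℕ) (f : Fin r → R), 0 < d ∧ (∀ i, f i ∈ 𝒜 (d : ℤ)) ∧
      plus 𝒜 ≤ (Ideal.span (Set.range f)).radical := by
  classical
  obtain ⟨s, hs, hhom, hle⟩ := exists_plus_le_radical 𝒜 hpos h0 r ⊥ (Ideal.IsHomogeneous.bot 𝒜)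
    (by rw [ringKrullDim_eq_of_ringEquiv (RingEquiv.quotientBot R)]; exact hr.le)
  rw [bot_sup_eq] at hle
  choose deg hdeg hmem using hhom
  let d := ∏ x ∈ s.attach, deg x.1 x.2
  have hd : 0 < d := Finset.prod_pos fun x _ => hdeg x.1 x.2
  let e : s → R := fun x => x.1 ^ (d / deg x.1 x.2)
  have he : ∀ x, e x ∈ 𝒜 (d : ℤ) := fun x => by
    have h := SetLike.pow_mem_graded (d / deg x.1 x.2) (hmem x.1 x.2)
    rwa [nsmul_eq_mul, ← Nat.cast_mul, Nat.div_mul_cancel (Finset.dvd_prod_of_mem (fun x : s => deg x.1 x.2) (Finset.mem_attach s x))] at h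
  obtain ⟨ι, hι⟩ : ∃ ι : s → Fin r, Function.Injective ι :=
    ⟨_, ((Fin.castLEEmb hs).injective).comp s.equivFin.injective⟩
  refine ⟨d, Function.extend ι e 0, hd, fun i => ?_, hle.trans ?_⟩
  · by_cases h : ∃ x, ι x = i
    · obtain ⟨x, rfl⟩ := h; rw [hι.extend_apply]; exact he x
    · rw [Function.extend_apply' _ _ _ h]; exact Submodule.zero_mem _
  · rw [Ideal.radical_le_radical_iff, Ideal.span_le]
    intro x hx
    refine ⟨d / deg x (Finset.mem_coe.1 hx), Ideal.subset_span ⟨ι ⟨x, hx⟩, ?_⟩⟩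
    rw [hι.extend_apply]

end Groth.Agent.GrSegLib
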