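import Groth.Prelude.Def_GrSeg
import Mathlib.Algebra.BigOperators.Finprod
import Mathlib.RingTheory.Noetherian.Basic
import Mathlib.RingTheory.RingHom.FiniteType
import Mathlib.RingTheory.Polynomial.Basic
import Mathlib.RingTheory.GradedAlgebra.Homogeneous.Submodule

/-!
# The diagonal projection onto a Segre product
-/

universe u

open scoped TensorProduct

noncomputable section

set_option linter.unusedSectionVars false
set_option linter.style.haveILetI false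

namespace Groth.Agent.GrSegLib

section Proj

variable {k : Type u} [CommRing k] {R : Type u} [CommRing R] [Algebra k R]
  (𝒜 : ℤ → Submodule k R) [GradedAlgebra 𝒜]
  {M : Type u} [AddCommGroup M] [Module R M] [Module k M] [IsScalarTower k R M]
  {τ : Type u} [SetLike τ M] [AddSubgroupClass τ M] (ℳ : ℤ → τ) [DirectSum.Decomposition ℳ]
  [SetLike.GradedSMul 𝒜 ℳ]

omit [AddSubgroupClass τ M] [DirectSum.Decomposition ℳ] in
include 𝒜 in
theorem smul_mem_piece {n : ℤ} (c : k) {x : M} (hx : x ∈ ℳ n) : c • x ∈ ℳ n := by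
  have h := SetLike.GradedSMul.smul_mem (A := 𝒜) (B := ℳ) (SetLike.algebraMap_mem_graded 𝒜 c) hx
  rw [vadd_eq_add, zero_add, algebraMap_smul] at h
  exact h

/-- The degree `n` component. -/
def pr (n : ℤ) : M →ₗ[k] M where
  toFun x := (DirectSum.decompose ℳ x n : M)
  map_add' x y := by simp
  map_smul' c x := by
    classical
    induction x using DirectSum.Decomposition.inductionOn ℳ with
    | zero => simp
    | @homogeneous i y =>
      by_cases h : i = n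
      · subst h
        rw [DirectSum.decompose_of_mem_same ℳ (smul_mem_piece 𝒜 ℳ c y.2), DirectSum.decompose_of_mem_same ℳ y.2]
        rfl
      · rw [DirectSum.decompose_of_mem_ne ℳ (smul_mem_piece 𝒜 ℳ c y.2) h, DirectSum.decompose_of_mem_ne ℳ y.2 h]
        simp
    | add a b ha hb =>
      simp only [smul_add, DirectSum.decompose_add, DirectSum.add_apply, AddMemClass.coe_add,
        RingHom.id_apply] at ha hb ⊢
      rw [ha, hb]

theorem pr_mem (n : ℤ) (x : M) : pr 𝒜 ℳ n x ∈ ℳ n := (DirectSum.decompose ℳ x n).2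

theorem pr_of_mem {n : ℤ} {x : M} (hx : x ∈ ℳ n) : pr 𝒜 ℳ n x = x := DirectSum.decompose_of_mem_same ℳ hx

theorem pr_of_mem_ne {n m : ℤ} {x : M} (hx : x ∈ ℳ m) (h : m ≠ n) : pr 𝒜 ℳ n x = 0 :=
  DirectSum.decompose_of_mem_ne ℳ hx h

theorem finite_support_pr (x : M) : {n : ℤ | pr 𝒜 ℳ n x ≠ 0}.Finite := by
  classical
  refine (DirectSum.decompose ℳ x).support.finite_toSet.subset fun n hn => ?_
  rw [Finset.mem_coe, DFinsupp.mem_support_iff]
  exact fun h => hn (by change (DirectSum.decompose ℳ x n : M) = 0; rw [h]; rfl)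

end Proj

variable {k : Type u} [CommRing k] {R S : Type u} [CommRing R] [Algebra k R] [CommRing S] [Algebra k S]
  (𝒜 : ℤ → Submodule k R) [GradedAlgebra 𝒜] (ℬ : ℤ → Submodule k S) [GradedAlgebra ℬ]

section Diag

variable {M N : Type u} [AddCommGroup M] [Module R M] [Module k M] [IsScalarTower k R M]
  [AddCommGroup N] [Module S N] [Module k N] [IsScalarTower k S N]
  {τ τ' : Type u} [SetLike τ M] [AddSubgroupClass τ M] [SetLike τ' N] [AddSubgroupClass τ' N]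
  (ℳ : ℤ → τ) [DirectSum.Decomposition ℳ] [SetLike.GradedSMul 𝒜 ℳ]
  (𝒩 : ℤ → τ') [DirectSum.Decomposition 𝒩] [SetLike.GradedSMul ℬ 𝒩]

theorem finite_support (x : M) (y : N) :
    (Function.support fun n => pr 𝒜 ℳ n x ⊗ₜ[k] pr ℬ 𝒩 n y).Finite :=
  (finite_support_pr 𝒜 ℳ x).subset fun n hn h => hn (by change pr 𝒜 ℳ n x ⊗ₜ[k] _ = 0; rw [h, TensorProduct.zero_tmul])

/-- The projection of `M ⊗ N` onto `⊕ M_n ⊗ N_n`. -/
def diag : M ⊗[k] N →ₗ[k] M ⊗[k] N :=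
  TensorProduct.lift (LinearMap.mk₂ k (fun x y => ∑ᶠ n, pr 𝒜 ℳ n x ⊗ₜ[k] pr ℬ 𝒩 n y)
    (fun x x' y => by
      rw [← finsum_add_distrib (finite_support 𝒜 ℬ ℳ 𝒩 x y) (finite_support 𝒜 ℬ ℳ 𝒩 x' y)]
      exact finsum_congr fun n => by rw [map_add, TensorProduct.add_tmul])
    (fun c x y => by
      rw [smul_finsum' c (finite_support 𝒜 ℬ ℳ 𝒩 x y)]
      exact finsum_congr fun n => by rw [map_smul, TensorProduct.smul_tmul'])
    (fun x y y' => by
      rw [← finsum_add_distrib (finite_support 𝒜 ℬ ℳ 𝒩 x y) (finite_support 𝒜 ℬ ℳ 𝒩 x y')]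
      exact finsum_congr fun n => by rw [map_add, TensorProduct.tmul_add])
    (fun c x y => by
      rw [smul_finsum' c (finite_support 𝒜 ℬ ℳ 𝒩 x y)]
      exact finsum_congr fun n => by rw [map_smul, TensorProduct.tmul_smul]))

theorem diag_tmul_same {i : ℤ} {x : M} {y : N} (hx : x ∈ ℳ i) (hy : y ∈ 𝒩 i) :
    diag 𝒜 ℬ ℳ 𝒩 (x ⊗ₜ[k] y) = x ⊗ₜ[k] y := by
  rw [diag, TensorProduct.lift.tmul, LinearMap.mk₂_apply, finsum_eq_single _ i fun n hn => by
    rw [pr_of_mem_ne 𝒜 ℳ hx hn.symm, TensorProduct.zero_tmul]]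
  rw [pr_of_mem 𝒜 ℳ hx, pr_of_mem ℬ 𝒩 hy]

theorem diag_tmul_ne {i j : ℤ} {x : M} {y : N} (hx : x ∈ ℳ i) (hy : y ∈ 𝒩 j) (h : i ≠ j) :
    diag 𝒜 ℬ ℳ 𝒩 (x ⊗ₜ[k] y) = 0 := by
  rw [diag, TensorProduct.lift.tmul, LinearMap.mk₂_apply]
  refine finsum_eq_zero_of_forall_eq_zero fun n => ?_
  rcases eq_or_ne i n with rfl | hn
  · rw [pr_of_mem_ne ℬ 𝒩 hy h.symm, TensorProduct.tmul_zero]
  · rw [pr_of_mem_ne 𝒜 ℳ hx hn, TensorProduct.zero_tmul]

omit [GradedAlgebra 𝒜] [GradedAlgebra ℬ] [Module R M] [Module S N] [IsScalarTower k R M] [IsScalarTower k S N] [SetLike.GradedSMul 𝒜 ℳ] [SetLike.GradedSMul ℬ 𝒩] in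
/-- Induction on homogeneous pure tensors. -/
theorem tensor_induction {P : M ⊗[k] N → Prop} (h0 : P 0) (hadd : ∀ a b, P a → P b → P (a + b))
    (h : ∀ (i j : ℤ) (x : M) (y : N), x ∈ ℳ i → y ∈ 𝒩 j → P (x ⊗ₜ[k] y)) (z : M ⊗[k] N) : P z := by
  induction z using TensorProduct.induction_on with
  | zero => exact h0
  | tmul x y =>
    induction x using DirectSum.Decomposition.inductionOn ℳ with
    | zero => rw [TensorProduct.zero_tmul]; exact h0
    | @homogeneous i x =>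
      induction y using DirectSum.Decomposition.inductionOn 𝒩 with
      | zero => rw [TensorProduct.tmul_zero]; exact h0
      | @homogeneous j y => exact h i j _ _ x.2 y.2
      | add a b ha hb => rw [TensorProduct.tmul_add]; exact hadd _ _ ha hb
    | add a b ha hb => rw [TensorProduct.add_tmul]; exact hadd _ _ ha hb
  | add a b ha hb => exact hadd _ _ ha hb

theorem diag_mem_iSup (z : M ⊗[k] N) : diag 𝒜 ℬ ℳ 𝒩 z ∈ ⨆ n, GrSeg.segrePiece k ℳ 𝒩 n := by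
  refine tensor_induction ℳ 𝒩 (P := fun z => diag 𝒜 ℬ ℳ 𝒩 z ∈ ⨆ n, GrSeg.segrePiece k ℳ 𝒩 n)
    (by simp) (fun a b ha hb => by rw [map_add]; exact Submodule.add_mem _ ha hb) (fun i j x y hx hy => ?_) z
  rcases eq_or_ne i j with rfl | h
  · rw [diag_tmul_same 𝒜 ℬ ℳ 𝒩 hx hy]
    exact Submodule.mem_iSup_of_mem i (Submodule.subset_span ⟨x, hx, y, hy, rfl⟩)
  · rw [diag_tmul_ne 𝒜 ℬ ℳ 𝒩 hx hy h]
    exact Submodule.zero_mem _

theorem diag_eq_self_of_mem_piece {n : ℤ} {z : M ⊗[k] N} (hz : z ∈ GrSeg.segrePiece k ℳ 𝒩 n) :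
    diag 𝒜 ℬ ℳ 𝒩 z = z := by
  have : GrSeg.segrePiece k ℳ 𝒩 n ≤ LinearMap.eqLocus (diag 𝒜 ℬ ℳ 𝒩) LinearMap.id :=
    Submodule.span_le.2 fun w ⟨a, ha, b, hb, hw⟩ => by
      subst hw; exact diag_tmul_same 𝒜 ℬ ℳ 𝒩 ha hb
  exact this hz

/-- `diag` is linear over the diagonal. -/
theorem diag_act {n : ℤ} {z : M ⊗[k] N} (hz : z ∈ GrSeg.segrePiece k ℳ 𝒩 n) (w : R ⊗[k] S) :
    diag 𝒜 ℬ ℳ 𝒩 (GrSeg.act k R S M N w z) = GrSeg.act k R S M N (diag 𝒜 ℬ 𝒜 ℬ w) z := by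
  refine tensor_induction 𝒜 ℬ (P := fun w => diag 𝒜 ℬ ℳ 𝒩 (GrSeg.act k R S M N w z) =
    GrSeg.act k R S M N (diag 𝒜 ℬ 𝒜 ℬ w) z) (by simp)
    (fun a b ha hb => by simp only [map_add, LinearMap.add_apply, ha, hb]) (fun i j a b ha hb => ?_) w
  have hle : GrSeg.segrePiece k ℳ 𝒩 n ≤ LinearMap.eqLocus
      (diag 𝒜 ℬ ℳ 𝒩 ∘ₗ GrSeg.act k R S M N (a ⊗ₜ[k] b))
      (GrSeg.act k R S M N (diag 𝒜 ℬ 𝒜 ℬ (a ⊗ₜ[k] b))) :=
    Submodule.span_le.2 fun w ⟨x, hx, y, hy, hw⟩ => by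
      subst hw
      change diag 𝒜 ℬ ℳ 𝒩 (GrSeg.act k R S M N (a ⊗ₜ[k] b) (x ⊗ₜ[k] y)) = _
      rw [GrSeg.act_tmul]
      have hax : a • x ∈ ℳ (i + n) := SetLike.GradedSMul.smul_mem (A := 𝒜) (B := ℳ) ha hx
      have hby : b • y ∈ 𝒩 (j + n) := SetLike.GradedSMul.smul_mem (A := ℬ) (B := 𝒩) hb hy
      rcases eq_or_ne i j with rfl | h
      · rw [diag_tmul_same 𝒜 ℬ ℳ 𝒩 hax hby, diag_tmul_same 𝒜 ℬ 𝒜 ℬ ha hb, GrSeg.act_tmul]
      · rw [diag_tmul_ne 𝒜 ℬ ℳ 𝒩 hax hby (fun e => h (add_right_cancel e)), diag_tmul_ne 𝒜 ℬ 𝒜 ℬ ha hb h]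
        simp
  exact hle hz

end Diag

section Act

variable (k R S) in
theorem act_mul (M N : Type u) [AddCommGroup M] [Module R M] [Module k M] [IsScalarTower k R M]
    [AddCommGroup N] [Module S N] [Module k N] [IsScalarTower k S N] (w w' : R ⊗[k] S) :
    GrSeg.act k R S M N (w * w') = GrSeg.act k R S M N w ∘ₗ GrSeg.act k R S M N w' := by
  induction w using TensorProduct.induction_on with
  | zero => simp
  | add a b ha hb => rw [add_mul, map_add, ha, hb, map_add, LinearMap.add_comp]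
  | tmul a b =>
    induction w' using TensorProduct.induction_on with
    | zero => simp
    | add c d hc hd => rw [mul_add, map_add, hc, hd, map_add, LinearMap.comp_add]
    | tmul c d =>
      refine TensorProduct.ext' fun x y => ?_
      rw [Algebra.TensorProduct.tmul_mul_tmul, LinearMap.comp_apply, GrSeg.act_tmul, GrSeg.act_tmul,
        GrSeg.act_tmul, mul_smul, mul_smul]

variable (k R S) in
theorem act_one (M N : Type u) [AddCommGroup M] [Module R M] [Module k M] [IsScalarTower k R M]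
    [AddCommGroup N] [Module S N] [Module k N] [IsScalarTower k S N] :
    GrSeg.act k R S M N 1 = LinearMap.id :=
  TensorProduct.ext' fun x y => by
    rw [Algebra.TensorProduct.one_def, GrSeg.act_tmul, one_smul, one_smul, LinearMap.id_apply]

theorem act_eq_mul (w z : R ⊗[k] S) : GrSeg.act k R S R S w z = w * z := by
  induction w using TensorProduct.induction_on with
  | zero => simp
  | add a b ha hb => rw [map_add, LinearMap.add_apply, ha, hb, add_mul]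
  | tmul a b =>
    induction z using TensorProduct.induction_on with
    | zero => simp
    | add c d hc hd => rw [map_add, hc, hd, mul_add]
    | tmul c d => rw [GrSeg.act_tmul, Algebra.TensorProduct.tmul_mul_tmul]; rfl

/-- `M ⊗ N` as a module over `R ⊗ S`. -/
@[reducible]
def actModule (M N : Type u) [AddCommGroup M] [Module R M] [Module k M] [IsScalarTower k R M]
    [AddCommGroup N] [Module S N] [Module k N] [IsScalarTower k S N] :
    Module (R ⊗[k] S) (M ⊗[k] N) :=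
  Module.compHom _
    ({ toFun := GrSeg.act k R S M N
       map_one' := act_one k R S M N
       map_mul' := act_mul k R S M N
       map_zero' := map_zero _
       map_add' := map_add _ } : R ⊗[k] S →+* Module.End k (M ⊗[k] N))

end Act

section Module

variable {T : Type u} [CommRing T] [Algebra k T]
  {M N P : Type u} [AddCommGroup M] [Module R M] [Module k M] [IsScalarTower k R M]
  [AddCommGroup N] [Module S N] [Module k N] [IsScalarTower k S N]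
  [AddCommGroup P] [Module T P] [Module k P] [IsScalarTower k T P]
  {τM τN τQ : Type u} [SetLike τM M] [AddSubgroupClass τM M] [SetLike τN N] [AddSubgroupClass τN N]
  [SetLike τQ P] [AddSubgroupClass τQ P]
  (ℳ : ℤ → τM) [DirectSum.Decomposition ℳ] [SetLike.GradedSMul 𝒜 ℳ]
  (𝒩 : ℤ → τN) [DirectSum.Decomposition 𝒩] [SetLike.GradedSMul ℬ 𝒩]
  (𝒬 : ℤ → τQ) [DirectSum.Decomposition 𝒬]
  {ψ : T →ₐ[k] R ⊗[k] S} {φ : P →ₗ[k] M ⊗[k] N}

omit [AddSubgroupClass τM M] [AddSubgroupClass τN N] [DirectSum.Decomposition ℳ] [DirectSum.Decomposition 𝒩] in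
theorem range_eq {φ : P →ₗ[k] M ⊗[k] N}
    (him : ∀ n : ℤ, φ '' (𝒬 n : Set P) = (GrSeg.segrePiece k ℳ 𝒩 n : Set (M ⊗[k] N))) :
    LinearMap.range φ = ⨆ n, GrSeg.segrePiece k ℳ 𝒩 n := by
  refine le_antisymm ?_ (iSup_le fun n z hz => ?_)
  · rintro _ ⟨p, rfl⟩
    induction p using DirectSum.Decomposition.inductionOn 𝒬 with
    | zero => simp
    | @homogeneous i q =>
      refine Submodule.mem_iSup_of_mem i ?_
      rw [← SetLike.mem_coe, ← him]
      exact ⟨q, q.2, rfl⟩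
    | add a b ha hb => rw [map_add]; exact Submodule.add_mem _ ha hb
  · rw [← SetLike.mem_coe, ← him] at hz
    obtain ⟨q, _, rfl⟩ := hz
    exact ⟨q, rfl⟩

theorem diag_eq_self {z : M ⊗[k] N} (hz : z ∈ ⨆ n, GrSeg.segrePiece k ℳ 𝒩 n) : diag 𝒜 ℬ ℳ 𝒩 z = z :=
  (iSup_le fun _ _ h => diag_eq_self_of_mem_piece 𝒜 ℬ ℳ 𝒩 h :
    (⨆ n, GrSeg.segrePiece k ℳ 𝒩 n) ≤ LinearMap.eqLocus (diag 𝒜 ℬ ℳ 𝒩) LinearMap.id) hz

theorem diag_act' {z : M ⊗[k] N} (hz : z ∈ ⨆ n, GrSeg.segrePiece k ℳ 𝒩 n) (w : R ⊗[k] S) :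
    diag 𝒜 ℬ ℳ 𝒩 (GrSeg.act k R S M N w z) = GrSeg.act k R S M N (diag 𝒜 ℬ 𝒜 ℬ w) z :=
  (iSup_le fun _ _ h => diag_act 𝒜 ℬ ℳ 𝒩 h w :
    (⨆ n, GrSeg.segrePiece k ℳ 𝒩 n) ≤ LinearMap.eqLocus (diag 𝒜 ℬ ℳ 𝒩 ∘ₗ GrSeg.act k R S M N w)
      (GrSeg.act k R S M N (diag 𝒜 ℬ 𝒜 ℬ w))) hz

/-- A Segre product of finite modules is noetherian over a ring whose image contains the diagonal. -/
theorem isNoetherian_segre [IsNoetherianRing k] [Algebra.FiniteType k R] [Algebra.FiniteType k S]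
    [Module.Finite R M] [Module.Finite S N]
    (hψ : ∀ z ∈ ⨆ n, GrSeg.segrePiece k 𝒜 ℬ n, z ∈ Set.range ψ)
    (hP : GrSeg.IsSegreMod ψ ℳ 𝒩 𝒬 φ) : IsNoetherian T P := by
  classical
  letI := actModule (k := k) (R := R) (S := S) M N
  have : Algebra.FiniteType k (R ⊗[k] S) := Algebra.FiniteType.trans (inferInstance : Algebra.FiniteType k R)
    (inferInstance : Algebra.FiniteType R (R ⊗[k] S))
  have hN : IsNoetherianRing (R ⊗[k] S) := Algebra.FiniteType.isNoetherianRing k _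
  obtain ⟨sM, hM⟩ := (Module.finite_def.1 (inferInstance : Module.Finite R M))
  obtain ⟨sN, hN'⟩ := (Module.finite_def.1 (inferInstance : Module.Finite S N))
  have hfin : Module.Finite (R ⊗[k] S) (M ⊗[k] N) := by
    refine ⟨⟨(sM ×ˢ sN).image fun p => p.1 ⊗ₜ[k] p.2, eq_top_iff.2 fun z _ => ?_⟩⟩
    induction z using TensorProduct.induction_on with
    | zero => exact Submodule.zero_mem _
    | add a b ha hb => exact Submodule.add_mem _ (ha trivial) (hb trivial)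
    | tmul x y =>
      have hx : x ∈ Submodule.span R (sM : Set M) := by rw [hM]; trivial
      have hy : y ∈ Submodule.span S (sN : Set N) := by rw [hN']; trivial
      obtain ⟨f, -, rfl⟩ := Submodule.mem_span_finset.1 hx
      obtain ⟨g, -, rfl⟩ := Submodule.mem_span_finset.1 hy
      rw [TensorProduct.sum_tmul]
      refine Submodule.sum_mem _ fun i hi => ?_
      rw [TensorProduct.tmul_sum]
      refine Submodule.sum_mem _ fun j hj => ?_
      rw [show (f i • i) ⊗ₜ[k] (g j • j) = (f i ⊗ₜ[k] g j : R ⊗[k] S) • (i ⊗ₜ[k] j) from (GrSeg.act_tmul ..).symm]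
      exact Submodule.smul_mem _ _ (Submodule.subset_span
        (Finset.mem_coe.2 (Finset.mem_image.2 ⟨(i, j), Finset.mem_product.2 ⟨hi, hj⟩, rfl⟩)))
  have : IsNoetherian (R ⊗[k] S) (M ⊗[k] N) := isNoetherian_of_isNoetherianRing_of_finite _ _
  let F : Submodule T P → Submodule (R ⊗[k] S) (M ⊗[k] N) := fun Q => Submodule.span _ (φ '' (Q : Set P))
  have hF : ∀ (Q : Submodule T P) (p : P), φ p ∈ F Q → p ∈ Q := by
    intro Q p hp
    have hdiag : ∀ q : P, diag 𝒜 ℬ ℳ 𝒩 (φ q) = φ q := fun q =>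
      diag_eq_self 𝒜 ℬ ℳ 𝒩 ((range_eq ℳ 𝒩 𝒬 hP.image_piece).le ⟨q, rfl⟩)
    have key : ∀ z ∈ F Q, ∀ w : R ⊗[k] S, ∃ q ∈ Q, φ q = diag 𝒜 ℬ ℳ 𝒩 (w • z) := by
      intro z hz
      refine Submodule.span_induction (p := fun z _ => ∀ w : R ⊗[k] S, ∃ q ∈ Q, φ q = diag 𝒜 ℬ ℳ 𝒩 (w • z))
        ?_ (fun w => ⟨0, Q.zero_mem, by simp⟩) ?_ ?_ hz
      · rintro _ ⟨q, hq, rfl⟩ w
        obtain ⟨t, ht⟩ := hψ _ (diag_mem_iSup 𝒜 ℬ 𝒜 ℬ w)
        refine ⟨t • q, Q.smul_mem t hq, ?_⟩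
        rw [hP.map_smul, ht]
        exact (diag_act' 𝒜 ℬ ℳ 𝒩 ((range_eq ℳ 𝒩 𝒬 hP.image_piece).le ⟨q, rfl⟩) w).symm
      · intro a b _ _ ha hb w
        obtain ⟨q, hq, e⟩ := ha w
        obtain ⟨q', hq', e'⟩ := hb w
        exact ⟨q + q', Q.add_mem hq hq', by rw [map_add, e, e', smul_add, map_add]⟩
      · intro v a _ ha w
        obtain ⟨q, hq, e⟩ := ha (w * v)
        exact ⟨q, hq, by rw [e, mul_smul]⟩
    obtain ⟨q, hq, e⟩ := key _ hp 1
    rw [one_smul, hdiag] at e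
    exact hP.injective e ▸ hq
  have hinj : ∀ Q Q' : Submodule T P, F Q ≤ F Q' → Q ≤ Q' := fun Q Q' h p hp =>
    hF Q' p (h (Submodule.subset_span ⟨p, hp, rfl⟩))
  have hmono : Monotone F := fun Q Q' h => Submodule.span_mono (Set.image_mono h)
  rw [isNoetherian_iff']
  exact StrictMono.wellFoundedGT (f := F) fun Q Q' h =>
    lt_of_le_of_ne (hmono h.le) fun he => h.not_ge (hinj Q' Q he.ge)

end Module

section Ring

variable {T : Type u} [CommRing T] [Algebra k T] (𝒯 : ℤ → Submodule k T) [GradedAlgebra 𝒯]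
  {ψ : T →ₐ[k] R ⊗[k] S}

omit [GradedAlgebra 𝒜] [GradedAlgebra ℬ] [GradedAlgebra 𝒯] in
theorem image_coe (hdegT : ∀ n : ℤ, (𝒯 n).map ψ.toLinearMap = GrSeg.segrePiece k 𝒜 ℬ n) (n : ℤ) :
    ψ '' (𝒯 n : Set T) = (GrSeg.segrePiece k 𝒜 ℬ n : Set (R ⊗[k] S)) := by
  rw [← hdegT n]; rfl

theorem range_mem (hdegT : ∀ n : ℤ, (𝒯 n).map ψ.toLinearMap = GrSeg.segrePiece k 𝒜 ℬ n) :
    ∀ z ∈ ⨆ n, GrSeg.segrePiece k 𝒜 ℬ n, z ∈ Set.range ψ := fun _ hz =>
  (range_eq (φ := ψ.toLinearMap) 𝒜 ℬ 𝒯 (image_coe 𝒜 ℬ 𝒯 hdegT)).ge hz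

theorem isSegreMod_self (hψ : Function.Injective ψ)
    (hdegT : ∀ n : ℤ, (𝒯 n).map ψ.toLinearMap = GrSeg.segrePiece k 𝒜 ℬ n) :
    GrSeg.IsSegreMod ψ 𝒜 ℬ 𝒯 ψ.toLinearMap :=
  ⟨hψ, image_coe 𝒜 ℬ 𝒯 hdegT, fun t p => by
    change ψ (t • p) = GrSeg.act k R S R S (ψ t) (ψ p)
    rw [act_eq_mul, smul_eq_mul, map_mul]⟩

theorem isNoetherianRing_segre [IsNoetherianRing k] [Algebra.FiniteType k R] [Algebra.FiniteType k S]
    (hψ : Function.Injective ψ)
    (hdegT : ∀ n : ℤ, (𝒯 n).map ψ.toLinearMap = GrSeg.segrePiece k 𝒜 ℬ n) : IsNoetherianRing T :=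
  isNoetherianRing_iff.2
    (isNoetherian_segre 𝒜 ℬ 𝒜 ℬ 𝒯 (range_mem 𝒜 ℬ 𝒯 hdegT) (isSegreMod_self 𝒜 ℬ 𝒯 hψ hdegT))

end Ring

end Groth.Agent.GrSegLib
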