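import Groth.Agent.Lib.GrSeg.NoetherNorm
import Mathlib.RingTheory.Flat.Basic
import Mathlib.RingTheory.Finiteness.Bilinear
import Mathlib.Data.Int.Interval
import Mathlib.RingTheory.MvPolynomial.Localization
import Mathlib.RingTheory.Algebraic.Integral

/-!
# Dimension of a Segre product
-/

universe u

open scoped TensorProduct
open MvPolynomial

noncomputable section

set_option linter.unusedSectionVars false

namespace Groth.Agent.GrSegLib

/-- First isomorphism theorem for an algebra map. -/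
def quotRangeEquiv {k A B : Type u} [CommRing k] [CommRing A] [CommRing B] [Algebra k A] [Algebra k B]
    (φ : A →ₐ[k] B) : (A ⧸ RingHom.ker φ) ≃+* φ.range :=
  (Ideal.quotEquivOfEq (SetLike.ext fun x => by
    rw [RingHom.mem_ker, RingHom.mem_ker, ← Subtype.val_inj]; rfl :
      RingHom.ker φ = RingHom.ker φ.rangeRestrict.toRingHom)).trans
    (RingHom.quotientKerEquivOfSurjective (f := φ.rangeRestrict.toRingHom) (AlgHom.rangeRestrict_surjective φ))

section Poly

variable (k : Type u) [Field k] (a b : ℕ)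

/-- `z_ij ↦ x_i y_j`. -/
def segreVar : MvPolynomial (Fin (a + 1) × Fin (b + 1)) k →ₐ[k] MvPolynomial (Fin (a + 1) ⊕ Fin (b + 1)) k :=
  aeval fun p => X (Sum.inl p.1) * X (Sum.inr p.2)

/-- Dehomogenized: `x_0 = 1`. -/
def segreDehom : MvPolynomial (Fin (a + 1) × Fin (b + 1)) k →ₐ[k] MvPolynomial (Fin a ⊕ Fin (b + 1)) k :=
  aeval fun p => (Fin.cons 1 (fun i : Fin a => X (Sum.inl i)) : Fin (a + 1) → _) p.1 * X (Sum.inr p.2)

theorem ker_segreVar : RingHom.ker (segreVar k a b) = RingHom.ker (segreDehom k a b) := by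
  let P := MvPolynomial (Fin (a + 1) ⊕ Fin (b + 1)) k
  let K := FractionRing P
  let σ : MvPolynomial (Fin (a + 1) ⊕ Fin (b + 1)) k →ₐ[k] MvPolynomial (Fin a ⊕ Fin (b + 1)) k :=
    aeval (Sum.elim (Fin.cons 1 fun i : Fin a => X (Sum.inl i)) fun j => X (Sum.inr j))
  let τ : MvPolynomial (Fin a ⊕ Fin (b + 1)) k →ₐ[k] K :=
    aeval (Sum.elim (fun i : Fin a => algebraMap P K (X (Sum.inl i.succ)) / algebraMap P K (X (Sum.inl 0)))
      fun j => algebraMap P K (X (Sum.inl 0)) * algebraMap P K (X (Sum.inr j)))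
  have h1 : σ.comp (segreVar k a b) = segreDehom k a b := by
    refine MvPolynomial.algHom_ext fun p => ?_
    simp [σ, segreVar, segreDehom]
  have h0 : algebraMap P K (X (Sum.inl 0)) ≠ 0 :=
    fun h => X_ne_zero (R := k) (Sum.inl (0 : Fin (a + 1)) : Fin (a + 1) ⊕ Fin (b + 1))
      (IsFractionRing.injective P K (h.trans (map_zero _).symm))
  have h2 : τ.comp (segreDehom k a b) = (IsScalarTower.toAlgHom k P K).comp (segreVar k a b) := by
    refine MvPolynomial.algHom_ext fun p => ?_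
    obtain ⟨i, j⟩ := p
    simp only [AlgHom.comp_apply, segreDehom, segreVar, aeval_X, map_mul, IsScalarTower.coe_toAlgHom']
    refine Fin.cases ?_ (fun i => ?_) i
    · simp [τ]
    · simp only [Fin.cons_succ, τ, aeval_X, Sum.elim_inl, Sum.elim_inr]
      rw [← mul_assoc, div_mul_cancel₀ _ h0]
  refine le_antisymm (fun z hz => ?_) fun z hz => ?_
  · rw [RingHom.mem_ker, ← h1, AlgHom.comp_apply, RingHom.mem_ker.1 hz, map_zero]
  · rw [RingHom.mem_ker]
    refine IsFractionRing.injective P K ?_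
    have := DFunLike.congr_fun h2 z
    rw [AlgHom.comp_apply, RingHom.mem_ker.1 hz, map_zero] at this
    rw [map_zero]
    exact this.symm

/-- The image of the dehomogenized map has dimension `a + b + 1`. -/
theorem ringKrullDim_range_segreDehom :
    ringKrullDim (MvPolynomial (Fin (a + 1) × Fin (b + 1)) k ⧸ RingHom.ker (segreDehom k a b)) =
      ((a + b + 1 : ℕ) : WithBot ℕ∞) := by
  let B := MvPolynomial (Fin a ⊕ Fin (b + 1)) k
  let C := (segreDehom k a b).range
  rw [ringKrullDim_eq_of_ringEquiv (quotRangeEquiv (segreDehom k a b))]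
  have : Algebra.FiniteType k C := Algebra.FiniteType.of_surjective (segreDehom k a b).rangeRestrict
    (AlgHom.rangeRestrict_surjective _)
  rw [Groth.Agent.VarDim.ringKrullDim_eq_tdeg k C]
  have hv : ∀ j : Fin (b + 1), (X (Sum.inr j) : B) ∈ C := fun j => ⟨X (0, j), by simp [segreDehom]⟩
  have hw : ∀ i : Fin a, (X (Sum.inl i) * X (Sum.inr 0) : B) ∈ C := fun i => ⟨X (i.succ, 0), by simp [segreDehom, B]⟩
  have hX : ∀ v : Fin a ⊕ Fin (b + 1), IsAlgebraic C (X v : B) := by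
    rintro (i | j)
    · refine ⟨Polynomial.C ⟨_, hv 0⟩ * Polynomial.X - Polynomial.C ⟨_, hw i⟩, fun h => ?_, ?_⟩
      · have h' := congrArg (fun p => Polynomial.coeff p 1) h
        simp only [Polynomial.coeff_sub, Polynomial.coeff_C_mul, Polynomial.coeff_X_one, mul_one,
          Polynomial.coeff_C_succ, sub_zero, Polynomial.coeff_zero] at h'
        exact MvPolynomial.X_ne_zero (R := k) (Sum.inr 0 : Fin a ⊕ Fin (b + 1)) (congrArg Subtype.val h')
      · simp only [map_sub, map_mul, Polynomial.aeval_C, Polynomial.aeval_X]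
        change (X (Sum.inr 0) : B) * X (Sum.inl i) - X (Sum.inl i) * X (Sum.inr 0) = 0
        ring
    · exact isAlgebraic_algebraMap (⟨_, hv j⟩ : C)
  have halg : Algebra.IsAlgebraic C B := by
    constructor
    intro p
    induction p using MvPolynomial.induction_on with
    | C c => exact isAlgebraic_algebraMap (⟨_, C.algebraMap_mem c⟩ : C)
    | add p q hp hq => exact hp.add hq
    | mul_X p v hp => exact hp.mul (hX v)
  have : FaithfulSMul C B := (faithfulSMul_iff_algebraMap_injective _ _).2 Subtype.val_injective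
  have htr := trdeg_add_eq k C (A := B)
  rw [trdeg_eq_zero (R := C) (A := B), add_zero, MvPolynomial.trdeg_of_isDomain] at htr
  rw [Groth.Agent.VarDim.tdeg, htr]
  rw [Cardinal.mk_fintype, Cardinal.lift_natCast, Cardinal.toNat_natCast]
  norm_cast
  simp [add_assoc]

end Poly

variable {k : Type u} [Field k] {R : Type u} [CommRing R] [Algebra k R] [Algebra.FiniteType k R]
  (𝒜 : ℤ → Submodule k R) [GradedAlgebra 𝒜]

section Injective

variable (hpos : ∀ n : ℤ, n < 0 → 𝒜 n = ⊥) {r d : ℕ} (hd : 0 < d) (f : Fin r → R)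
  (hf : ∀ i, f i ∈ 𝒜 (d : ℤ)) (s : Finset R)
  (h : ∀ n : ℤ, 𝒜 n ≤ Submodule.span k (pr 𝒜 𝒜 n '' (s : Set R)) ⊔
    Submodule.span k {z | ∃ i, ∃ v ∈ 𝒜 (n - d), z = f i * v})
  (N : ℕ) (hN : ∀ n : ℤ, (N : ℤ) < n → ∀ b ∈ s, pr 𝒜 𝒜 n b = 0)

include hpos hd h hN in
theorem piece_le_adjoin : ∃ G : Finset R, ∀ n : ℤ, ∀ x ∈ 𝒜 n,
    x ∈ Submodule.span (Algebra.adjoin k (Set.range f)) (G : Set R) := by
  classical
  let G := (Finset.Icc (0 : ℤ) N).biUnion fun n => s.image fun b => pr 𝒜 𝒜 n b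
  refine ⟨G, ?_⟩
  suffices ∀ m : ℕ, ∀ n : ℤ, n < m → ∀ x ∈ 𝒜 n, x ∈ Submodule.span (Algebra.adjoin k (Set.range f)) (G : Set R) from
    fun n => this (n.toNat + 1) n (by omega)
  intro m
  induction m with
  | zero =>
    intro n hn x hx
    rw [hpos n (by simpa using hn), Submodule.mem_bot] at hx
    rw [hx]; exact Submodule.zero_mem _
  | succ m ih =>
    intro n hn x hx
    rcases lt_or_ge n 0 with h0 | h0
    · rw [hpos n h0, Submodule.mem_bot] at hx
      rw [hx]; exact Submodule.zero_mem _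
    refine ((sup_le ?_ ?_).trans le_rfl : _ ≤ (Submodule.span (Algebra.adjoin k (Set.range f)) (G : Set R)).restrictScalars k)
      (h n hx)
    · refine Submodule.span_le.2 ?_
      rintro _ ⟨b, hb, rfl⟩
      rcases le_or_gt n N with hn' | hn'
      · exact Submodule.subset_span (Finset.mem_coe.2 (Finset.mem_biUnion.2
          ⟨n, Finset.mem_Icc.2 ⟨h0, hn'⟩, Finset.mem_image_of_mem _ hb⟩))
      · rw [hN n hn' b hb]; exact Submodule.zero_mem _
    · refine Submodule.span_le.2 ?_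
      rintro _ ⟨i, v, hv, rfl⟩
      exact Submodule.smul_mem _ (⟨f i, Algebra.subset_adjoin ⟨i, rfl⟩⟩ : Algebra.adjoin k (Set.range f))
        (ih (n - d) (by omega) v hv)

include hpos hd h hN in
theorem isIntegral_aeval : (aeval (R := k) f).toRingHom.IsIntegral := by
  classical
  obtain ⟨G, hG⟩ := piece_le_adjoin 𝒜 hpos hd f s h N hN
  have hfin : Module.Finite (Algebra.adjoin k (Set.range f)) R := by
    refine ⟨⟨G, eq_top_iff.2 fun x _ => ?_⟩⟩
    rw [← DirectSum.sum_support_decompose 𝒜 x]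
    exact Submodule.sum_mem _ fun n _ => hG n _ (DirectSum.decompose 𝒜 x n).2
  intro x
  rcases subsingleton_or_nontrivial R with _ | _
  · exact ⟨1, Polynomial.monic_one, Subsingleton.elim _ _⟩
  obtain ⟨p, hp, hpx⟩ := Algebra.IsIntegral.isIntegral (R := Algebra.adjoin k (Set.range f)) x
  have hsurj : Function.Surjective ((aeval f).codRestrict (Algebra.adjoin k (Set.range f)) fun q => by
      rw [Algebra.adjoin_range_eq_range_aeval]; exact ⟨q, rfl⟩ : MvPolynomial (Fin r) k →ₐ[k] _) := fun y => by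
    obtain ⟨q, hq⟩ := ((Algebra.adjoin_range_eq_range_aeval k f).le y.2)
    exact ⟨q, Subtype.ext hq⟩
  obtain ⟨q, hq, -, hqm⟩ := Polynomial.lifts_and_degree_eq_and_monic
    (f := ((aeval f).codRestrict (Algebra.adjoin k (Set.range f)) fun q => by
      rw [Algebra.adjoin_range_eq_range_aeval]; exact ⟨q, rfl⟩ : MvPolynomial (Fin r) k →ₐ[k] _).toRingHom)
    ((Polynomial.lifts_iff_coeff_lifts p).2 fun n => hsurj _) hp
  refine ⟨q, hqm, ?_⟩
  rw [← hq, Polynomial.eval₂_map] at hpx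
  exact hpx

include hpos hd h hN in
theorem aeval_injective (hr : ringKrullDim R = r) : Function.Injective (aeval (R := k) f) := by
  rw [injective_iff_map_eq_zero]
  intro z hz
  by_contra hz0
  let Q := MvPolynomial (Fin r) k ⧸ RingHom.ker (aeval (R := k) f)
  let ι : Q →+* R := RingHom.kerLift (aeval (R := k) f).toRingHom
  letI : Algebra Q R := ι.toAlgebra
  have : Algebra.IsIntegral Q R := by
    constructor
    intro x
    obtain ⟨p, hp, hpx⟩ := isIntegral_aeval 𝒜 hpos hd f s h N hN x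
    refine ⟨p.map (Ideal.Quotient.mk _), hp.map _, ?_⟩
    rw [Polynomial.eval₂_map]
    exact hpx
  have h1 : ringKrullDim R = ringKrullDim Q :=
    Groth.Agent.VarDim.ringKrullDim_eq_of_isIntegral (RingHom.kerLift_injective _)
  have h2 := ringKrullDim_quotient_succ_le_of_nonZeroDivisor (R := MvPolynomial (Fin r) k)
    (mem_nonZeroDivisors_of_ne_zero hz0)
  have h3 : ringKrullDim Q ≤ ringKrullDim (MvPolynomial (Fin r) k ⧸ Ideal.span {z}) :=
    ringKrullDim_le_of_surjective (Ideal.Quotient.factor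
      ((Ideal.span_singleton_le_iff_mem _).2 (RingHom.mem_ker.2 hz))) (Ideal.Quotient.factor_surjective _)
  have h4 : ((r : ℕ) : WithBot ℕ∞) + 1 ≤ r := by
    calc ((r : ℕ) : WithBot ℕ∞) + 1 = ringKrullDim Q + 1 := by rw [← h1, hr]
      _ ≤ _ := by gcongr
      _ ≤ ringKrullDim (MvPolynomial (Fin r) k) := h2
      _ = r := Groth.Agent.VarDim.ringKrullDim_mvPolynomial k r
  have h5 : r + 1 ≤ r := by exact_mod_cast h4
  omega

end Injective

variable {S : Type u} [CommRing S] [Algebra k S] [Algebra.FiniteType k S]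
  (ℬ : ℤ → Submodule k S) [GradedAlgebra ℬ]
  {T : Type u} [CommRing T] [Algebra k T] (𝒯 : ℤ → Submodule k T) [GradedAlgebra 𝒯]

theorem segrePiece_eq_map₂ (n : ℤ) :
    GrSeg.segrePiece k 𝒜 ℬ n = Submodule.map₂ (TensorProduct.mk k R S) (𝒜 n) (ℬ n) := by
  rw [Submodule.map₂_eq_span_image2]
  refine congrArg (Submodule.span k) (Set.ext fun x => ?_)
  simp [Set.mem_image2, eq_comm]

theorem segrePiece_le {a b : ℕ} {d : ℤ} {f : Fin a → R} {g : Fin b → S} {n : ℤ}
    (hf : 𝒜 n ≤ Submodule.span k {z | ∃ i, ∃ v ∈ 𝒜 (n - d), z = f i * v})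
    (hg : ℬ n ≤ Submodule.span k {z | ∃ j, ∃ v ∈ ℬ (n - d), z = g j * v}) :
    GrSeg.segrePiece k 𝒜 ℬ n ≤ Submodule.span k
      {z | ∃ i j, ∃ v ∈ GrSeg.segrePiece k 𝒜 ℬ (n - d), z = (f i ⊗ₜ[k] g j) * v} := by
  rw [segrePiece_eq_map₂ 𝒜 ℬ n]
  refine (Submodule.map₂_le_map₂ hf hg).trans ?_
  rw [Submodule.map₂_span_span, Submodule.span_le]
  rintro _ ⟨_, ⟨i, v, hv, rfl⟩, _, ⟨j, w, hw, rfl⟩, rfl⟩
  exact Submodule.subset_span ⟨i, j, v ⊗ₜ w, Submodule.subset_span ⟨v, hv, w, hw, rfl⟩,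
    (Algebra.TensorProduct.tmul_mul_tmul ..).symm⟩

theorem ringKrullDim_segre (hposR : ∀ n : ℤ, n < 0 → 𝒜 n = ⊥) (h0R : 𝒜 0 = Submodule.span k {(1 : R)})
    (hposS : ∀ n : ℤ, n < 0 → ℬ n = ⊥) (h0S : ℬ 0 = Submodule.span k {(1 : S)})
    {ψ : T →ₐ[k] R ⊗[k] S} (hψ : Function.Injective ψ)
    (hdegT : ∀ n : ℤ, (𝒯 n).map ψ.toLinearMap = GrSeg.segrePiece k 𝒜 ℬ n)
    {a b : ℕ} (hr : ringKrullDim R = (a + 1 : ℕ)) (hs : ringKrullDim S = (b + 1 : ℕ)) :
    ringKrullDim T = ((a + b + 1 : ℕ) : WithBot ℕ∞) := by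
  classical
  obtain ⟨d, f0, hd, hf0, hradf⟩ := exists_noether_homogeneous 𝒜 hposR h0R hr
  obtain ⟨e, g0, he, hg0, hradg⟩ := exists_noether_homogeneous ℬ hposS h0S hs
  let f : Fin (a + 1) → R := fun i => f0 i ^ e
  let g : Fin (b + 1) → S := fun i => g0 i ^ d
  let D := d * e
  have hD : 0 < D := Nat.mul_pos hd he
  have hf : ∀ i, f i ∈ 𝒜 (D : ℤ) := fun i => by
    have := SetLike.pow_mem_graded e (hf0 i)
    rwa [show e • (d : ℤ) = (D : ℤ) by simp [D, mul_comm]] at this
  have hg : ∀ i, g i ∈ ℬ (D : ℤ) := fun i => by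
    have := SetLike.pow_mem_graded d (hg0 i)
    rwa [show d • (e : ℤ) = (D : ℤ) by simp [D]] at this
  have hradf' : plus 𝒜 ≤ (Ideal.span (Set.range f)).radical := hradf.trans (Ideal.radical_le_radical_iff.2
    (Ideal.span_le.2 fun x ⟨i, hx⟩ => hx ▸ ⟨e, Ideal.subset_span ⟨i, rfl⟩⟩))
  have hradg' : plus ℬ ≤ (Ideal.span (Set.range g)).radical := hradg.trans (Ideal.radical_le_radical_iff.2
    (Ideal.span_le.2 fun x ⟨i, hx⟩ => hx ▸ ⟨d, Ideal.subset_span ⟨i, rfl⟩⟩))
  obtain ⟨sR, NR, hR, hNR⟩ := exists_bound 𝒜 hD f hf hradf' hposR h0R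
  obtain ⟨sS, NS, hS, hNS⟩ := exists_bound ℬ hD g hg hradg' hposS h0S
  have hfinj := aeval_injective 𝒜 hposR hD f sR hR NR hNR hr
  have hginj := aeval_injective ℬ hposS hD g sS hS NS hNS hs
  have hmem : ∀ p : Fin (a + 1) × Fin (b + 1), ∃ t ∈ 𝒯 (D : ℤ), ψ t = f p.1 ⊗ₜ[k] g p.2 := fun p => by
    have : f p.1 ⊗ₜ[k] g p.2 ∈ (𝒯 (D : ℤ)).map ψ.toLinearMap := by
      rw [hdegT]; exact Submodule.subset_span ⟨_, hf _, _, hg _, rfl⟩
    exact this
  choose t ht hte using hmem
  let φ : MvPolynomial (Fin (a + 1) × Fin (b + 1)) k →ₐ[k] T := aeval t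
  let μ : MvPolynomial (Fin (a + 1) ⊕ Fin (b + 1)) k →ₐ[k] R ⊗[k] S :=
    (Algebra.TensorProduct.map (aeval f) (aeval g)).comp
      (aeval (Sum.elim (fun i => (X i : MvPolynomial (Fin (a + 1)) k) ⊗ₜ[k] (1 : MvPolynomial (Fin (b + 1)) k))
        fun j => (1 : MvPolynomial (Fin (a + 1)) k) ⊗ₜ[k] (X j : MvPolynomial (Fin (b + 1)) k)))
  have hμ : Function.Injective μ := by
    let inv : MvPolynomial (Fin (a + 1)) k ⊗[k] MvPolynomial (Fin (b + 1)) k →ₐ[k]
        MvPolynomial (Fin (a + 1) ⊕ Fin (b + 1)) k :=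
      Algebra.TensorProduct.productMap (rename Sum.inl) (rename Sum.inr)
    have h1 : Function.Injective (Algebra.TensorProduct.map (aeval (R := k) f) (aeval (R := k) g)) :=
      TensorProduct.map_injective_of_flat_flat (aeval f).toLinearMap (aeval g).toLinearMap hfinj hginj
    refine h1.comp (Function.LeftInverse.injective (g := inv) (DFunLike.congr_fun (f := inv.comp _) (g := AlgHom.id k _) ?_))
    refine MvPolynomial.algHom_ext fun v => ?_
    rcases v with i | j <;> simp [inv]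
  have hφ : ψ.comp φ = μ.comp (segreVar k a b) := by
    refine MvPolynomial.algHom_ext fun p => ?_
    simp [φ, μ, segreVar, hte, Algebra.TensorProduct.tmul_mul_tmul]
  have hker : RingHom.ker φ = RingHom.ker (segreDehom k a b) := by
    rw [← ker_segreVar]
    refine SetLike.ext fun z => ?_
    rw [RingHom.mem_ker, RingHom.mem_ker, ← (map_eq_zero_iff ψ hψ), ← (map_eq_zero_iff μ hμ),
      ← AlgHom.comp_apply, hφ, AlgHom.comp_apply]
  have hfinT : ∃ G : Finset T, ∀ x : T, x ∈ Submodule.span φ.range (G : Set T) := by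
    let N := max NR NS
    have hfg : ∀ n : ℤ, (𝒯 n).FG := fun n => Submodule.fg_of_fg_map_injective ψ.toLinearMap hψ (by
      rw [hdegT, segrePiece_eq_map₂]
      exact (piece_fg 𝒜 hD hposR hR n).map₂ _ (piece_fg ℬ hD hposS hS n))
    choose gen hgen using hfg
    refine ⟨(Finset.Icc (0 : ℤ) N).biUnion gen, fun x => ?_⟩
    let W := (Submodule.span φ.range (((Finset.Icc (0 : ℤ) N).biUnion gen : Finset T) : Set T)).restrictScalars k
    suffices ∀ m : ℕ, ∀ n : ℤ, n < m → 𝒯 n ≤ W by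
      rw [← DirectSum.sum_support_decompose 𝒯 x]
      exact Submodule.sum_mem _ fun n _ => this (n.toNat + 1) n (by omega) (DirectSum.decompose 𝒯 x n).2
    intro m
    induction m with
    | zero =>
      intro n hn y hy
      have h' : ψ y ∈ GrSeg.segrePiece k 𝒜 ℬ n := hdegT n ▸ ⟨y, hy, rfl⟩
      rw [segrePiece_eq_map₂, hposR n (by simpa using hn), Submodule.map₂_bot_left, Submodule.mem_bot] at h'
      rw [(map_eq_zero_iff ψ hψ).1 h']; exact Submodule.zero_mem _
    | succ m ih =>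
      intro n hn y hy
      rcases lt_or_ge n 0 with h0 | h0
      · have h' : ψ y ∈ GrSeg.segrePiece k 𝒜 ℬ n := hdegT n ▸ ⟨y, hy, rfl⟩
        rw [segrePiece_eq_map₂, hposR n h0, Submodule.map₂_bot_left, Submodule.mem_bot] at h'
        rw [(map_eq_zero_iff ψ hψ).1 h']; exact Submodule.zero_mem _
      rcases le_or_gt n N with hn' | hn'
      · rw [← hgen n] at hy
        refine (Submodule.span_le.2 fun z hz => ?_ : Submodule.span k (gen n : Set T) ≤ W) hy
        exact Submodule.subset_span (Finset.mem_coe.2 (Finset.mem_biUnion.2 ⟨n, Finset.mem_Icc.2 ⟨h0, hn'⟩, hz⟩))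
      · have hf' : 𝒜 n ≤ Submodule.span k {z | ∃ i, ∃ v ∈ 𝒜 (n - D), z = f i * v} := (hR n).trans (sup_le
          (Submodule.span_le.2 fun z ⟨b, hb, e⟩ => by
            rw [← e, hNR n (by omega) b hb]; exact Submodule.zero_mem _) le_rfl)
        have hg' : ℬ n ≤ Submodule.span k {z | ∃ j, ∃ v ∈ ℬ (n - D), z = g j * v} := (hS n).trans (sup_le
          (Submodule.span_le.2 fun z ⟨b, hb, e⟩ => by
            rw [← e, hNS n (by omega) b hb]; exact Submodule.zero_mem _) le_rfl)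
        obtain ⟨w, hw, hwe⟩ : ψ y ∈ W.map ψ.toLinearMap := by
          refine Submodule.span_le.2 ?_ (segrePiece_le 𝒜 ℬ hf' hg' (hdegT n ▸ ⟨y, hy, rfl⟩))
          rintro _ ⟨i, j, v, hv, rfl⟩
          rw [← hdegT] at hv
          obtain ⟨u, hu, rfl⟩ := hv
          refine ⟨t (i, j) * u, ?_, by simp [hte]⟩
          exact Submodule.smul_mem _ (⟨t (i, j), ⟨X (i, j), aeval_X _ _⟩⟩ : φ.range) (ih (n - D) (by omega) hu)
        exact hψ hwe ▸ hw
  obtain ⟨G, hG⟩ := hfinT
  have : Module.Finite φ.range T := ⟨⟨G, eq_top_iff.2 fun x _ => hG x⟩⟩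
  rw [Groth.Agent.VarDim.ringKrullDim_eq_of_isIntegral (R := φ.range) (S := T) Subtype.val_injective,
    ← ringKrullDim_eq_of_ringEquiv (quotRangeEquiv φ),
    ringKrullDim_eq_of_ringEquiv (Ideal.quotEquivOfEq hker)]
  exact ringKrullDim_range_segreDehom k a b

end Groth.Agent.GrSegLib
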