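import Groth.Agent.Lib.GrSeg.Basic
import Mathlib.LinearAlgebra.FiniteDimensional.Basic
import Mathlib.RingTheory.Flat.Basic
import Mathlib.LinearAlgebra.Dual.Lemmas

/-!
# Standard graded algebras and generation of Segre products
-/

universe u

open scoped TensorProduct

noncomputable section

set_option linter.unusedSectionVars false

namespace Groth.Agent.GrSegLib

variable {k : Type u} [CommRing k] {R S : Type u} [CommRing R] [Algebra k R] [CommRing S] [Algebra k S]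
  (𝒜 : ℤ → Submodule k R) [GradedAlgebra 𝒜] (ℬ : ℤ → Submodule k S) [GradedAlgebra ℬ]

section Module

variable {M : Type u} [AddCommGroup M] [Module R M] [Module k M] [IsScalarTower k R M]
  {τ : Type u} [SetLike τ M] [AddSubgroupClass τ M] (ℳ : ℤ → τ) [DirectSum.Decomposition ℳ]
  [SetLike.GradedSMul 𝒜 ℳ]

theorem pr_smul {i : ℤ} (n : ℤ) {u : R} (hu : u ∈ 𝒜 i) (x : M) :
    pr 𝒜 ℳ (i + n) (u • x) = u • pr 𝒜 ℳ n x := by
  induction x using DirectSum.Decomposition.inductionOn ℳ with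
  | zero => simp
  | @homogeneous j y =>
    have huy : u • (y : M) ∈ ℳ (i + j) := SetLike.GradedSMul.smul_mem (A := 𝒜) (B := ℳ) hu y.2
    rcases eq_or_ne j n with rfl | h
    · rw [pr_of_mem 𝒜 ℳ huy, pr_of_mem 𝒜 ℳ y.2]
    · rw [pr_of_mem_ne 𝒜 ℳ huy (fun e => h (add_left_cancel e)), pr_of_mem_ne 𝒜 ℳ y.2 h, smul_zero]
  | add a b ha hb => simp [smul_add, ha, hb]

theorem pr_smul_right {n : ℤ} (d : ℤ) {x : M} (hx : x ∈ ℳ n) (r : R) :
    pr 𝒜 ℳ (d + n) (r • x) = pr 𝒜 𝒜 d r • x := by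
  induction r using DirectSum.Decomposition.inductionOn 𝒜 with
  | zero => simp
  | @homogeneous j y =>
    have hyx : (y : R) • x ∈ ℳ (j + n) := SetLike.GradedSMul.smul_mem (A := 𝒜) (B := ℳ) y.2 hx
    rcases eq_or_ne j d with rfl | h
    · rw [pr_of_mem 𝒜 ℳ hyx, pr_of_mem 𝒜 𝒜 y.2]
    · rw [pr_of_mem_ne 𝒜 ℳ hyx (fun e => h (add_right_cancel e)), pr_of_mem_ne 𝒜 𝒜 y.2 h, zero_smul]
  | add a b ha hb => simp [add_smul, ha, hb]

end Module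

/-- In a standard graded algebra every piece is obtained from the previous one. -/
theorem piece_succ_le
    (hstd : Ideal.span (⋃ n ∈ Set.Ioi (0 : ℤ), (𝒜 n : Set R)) = Ideal.span ((𝒜 1 : Submodule k R) : Set R))
    {n : ℤ} (hn : 0 ≤ n) :
    𝒜 (n + 1) ≤ Submodule.span k {z | ∃ u ∈ 𝒜 1, ∃ v ∈ 𝒜 n, z = u * v} := by
  intro z hz
  have h1 : z ∈ Ideal.span ((𝒜 1 : Submodule k R) : Set R) := hstd ▸ Ideal.subset_span
    (Set.mem_biUnion (show n + 1 ∈ Set.Ioi (0 : ℤ) from by simp only [Set.mem_Ioi]; omega) hz)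
  have key : ∀ w ∈ Ideal.span ((𝒜 1 : Submodule k R) : Set R), ∀ r : R,
      pr 𝒜 𝒜 (n + 1) (r * w) ∈ Submodule.span k {z | ∃ u ∈ 𝒜 1, ∃ v ∈ 𝒜 n, z = u * v} := by
    intro w hw
    refine Submodule.span_induction (p := fun w _ => ∀ r : R, pr 𝒜 𝒜 (n + 1) (r * w) ∈ _) ?_ (by simp)
      (fun a b _ _ ha hb r => by rw [mul_add, map_add]; exact Submodule.add_mem _ (ha r) (hb r))
      (fun c a _ ha r => by rw [smul_eq_mul, ← mul_assoc]; exact ha _) hw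
    intro u hu r
    rw [mul_comm, add_comm n 1, ← smul_eq_mul u r, pr_smul 𝒜 𝒜 n hu]
    exact Submodule.subset_span ⟨u, hu, _, pr_mem 𝒜 𝒜 n r, rfl⟩
  have := key z h1 1
  rwa [one_mul, pr_of_mem 𝒜 𝒜 hz] at this

variable {M N : Type u} [AddCommGroup M] [Module R M] [Module k M] [IsScalarTower k R M]
  [AddCommGroup N] [Module S N] [Module k N] [IsScalarTower k S N]

theorem act_tmul_eq_map (w : R ⊗[k] S) (x : M) (y : N) :
    GrSeg.act k R S M N w (x ⊗ₜ[k] y) =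
      TensorProduct.map ((LinearMap.toSpanSingleton R M x).restrictScalars k)
        ((LinearMap.toSpanSingleton S N y).restrictScalars k) w := by
  induction w using TensorProduct.induction_on with
  | zero => simp
  | add a b ha hb => rw [map_add, LinearMap.add_apply, ha, hb, map_add]
  | tmul a b => rw [GrSeg.act_tmul, TensorProduct.map_tmul]; rfl

variable {τ τ' : Type u} [SetLike τ M] [AddSubgroupClass τ M] [SetLike τ' N] [AddSubgroupClass τ' N]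

theorem act_mem_piece (ℳ : ℤ → τ) [SetLike.GradedSMul 𝒜 ℳ] (𝒩 : ℤ → τ') [SetLike.GradedSMul ℬ 𝒩]
    {i n : ℤ} {w : R ⊗[k] S} (hw : w ∈ GrSeg.segrePiece k 𝒜 ℬ i) {z : M ⊗[k] N}
    (hz : z ∈ GrSeg.segrePiece k ℳ 𝒩 n) : GrSeg.act k R S M N w z ∈ GrSeg.segrePiece k ℳ 𝒩 (i + n) := by
  refine Submodule.span_induction (p := fun w _ => GrSeg.act k R S M N w z ∈ GrSeg.segrePiece k ℳ 𝒩 (i + n))
    ?_ (by simp) (fun a b _ _ ha hb => by rw [map_add, LinearMap.add_apply]; exact Submodule.add_mem _ ha hb)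
    (fun c a _ ha => by rw [map_smul, LinearMap.smul_apply]; exact Submodule.smul_mem _ c ha) hw
  rintro _ ⟨a, ha, b, hb, rfl⟩
  refine Submodule.span_induction (p := fun z _ => GrSeg.act k R S M N (a ⊗ₜ[k] b) z ∈ _)
    ?_ (by simp) (fun a b _ _ ha hb => by rw [map_add]; exact Submodule.add_mem _ ha hb)
    (fun c a _ ha => by rw [map_smul]; exact Submodule.smul_mem _ c ha) hz
  rintro _ ⟨x, hx, y, hy, rfl⟩
  rw [GrSeg.act_tmul]
  exact Submodule.subset_span ⟨_, SetLike.GradedSMul.smul_mem (A := 𝒜) (B := ℳ) ha hx, _,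
    SetLike.GradedSMul.smul_mem (A := ℬ) (B := 𝒩) hb hy, rfl⟩

theorem segrePiece_succ_le
    (hR : Ideal.span (⋃ n ∈ Set.Ioi (0 : ℤ), (𝒜 n : Set R)) = Ideal.span ((𝒜 1 : Submodule k R) : Set R))
    (hS : Ideal.span (⋃ n ∈ Set.Ioi (0 : ℤ), (ℬ n : Set S)) = Ideal.span ((ℬ 1 : Submodule k S) : Set S))
    {a b n : ℤ} (ha : 0 ≤ n + a) (hb : 0 ≤ n + b) :
    GrSeg.segrePiece k (fun n => 𝒜 (n + a)) (fun n => ℬ (n + b)) (n + 1) ≤
      Submodule.span k {z | ∃ w ∈ GrSeg.segrePiece k 𝒜 ℬ 1,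
        ∃ v ∈ GrSeg.segrePiece k (fun n => 𝒜 (n + a)) (fun n => ℬ (n + b)) n, z = GrSeg.act k R S R S w v} := by
  refine Submodule.span_le.2 ?_
  rintro _ ⟨x, hx, y, hy, rfl⟩
  simp only at hx hy
  rw [show n + 1 + a = n + a + 1 by ring] at hx
  rw [show n + 1 + b = n + b + 1 by ring] at hy
  refine Submodule.span_induction (p := fun x _ => x ⊗ₜ[k] y ∈ Submodule.span k _) ?_ (by simp)
    (fun a b _ _ ha hb => by rw [TensorProduct.add_tmul]; exact Submodule.add_mem _ ha hb)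
    (fun c a _ ha => by rw [← TensorProduct.smul_tmul']; exact Submodule.smul_mem _ c ha)
    (piece_succ_le 𝒜 hR ha hx)
  rintro _ ⟨u, hu, v, hv, rfl⟩
  refine Submodule.span_induction (p := fun y _ => (u * v) ⊗ₜ[k] y ∈ Submodule.span k _) ?_ (by simp)
    (fun a b _ _ ha hb => by rw [TensorProduct.tmul_add]; exact Submodule.add_mem _ ha hb)
    (fun c a _ ha => by rw [TensorProduct.tmul_smul]; exact Submodule.smul_mem _ c ha)
    (piece_succ_le ℬ hS hb hy)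
  rintro _ ⟨u', hu', v', hv', rfl⟩
  exact Submodule.subset_span ⟨u ⊗ₜ u', Submodule.subset_span ⟨u, hu, u', hu', rfl⟩, v ⊗ₜ v',
    Submodule.subset_span ⟨v, hv, v', hv', rfl⟩,
    by rw [act_eq_mul, Algebra.TensorProduct.tmul_mul_tmul]⟩

section SegreMod

variable {T : Type u} [CommRing T] [Algebra k T] (𝒯 : ℤ → Submodule k T)
  {P : Type u} [AddCommGroup P] [Module T P] [Module k P] [IsScalarTower k T P]
  {τQ : Type u} [SetLike τQ P] [AddSubgroupClass τQ P]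
  (ℳ : ℤ → τ) (𝒩 : ℤ → τ') (𝒬 : ℤ → τQ) [DirectSum.Decomposition 𝒬]
  {ψ : T →ₐ[k] R ⊗[k] S} {φ : P →ₗ[k] M ⊗[k] N}

theorem mem_piece_iff (hP : GrSeg.IsSegreMod ψ ℳ 𝒩 𝒬 φ) {n : ℤ} {p : P} :
    p ∈ 𝒬 n ↔ φ p ∈ GrSeg.segrePiece k ℳ 𝒩 n := by
  rw [← SetLike.mem_coe (p := GrSeg.segrePiece k ℳ 𝒩 n), ← hP.image_piece]
  exact ⟨fun h => ⟨p, h, rfl⟩, fun ⟨q, hq, e⟩ => hP.injective e ▸ hq⟩

theorem exists_preimage (hP : GrSeg.IsSegreMod ψ ℳ 𝒩 𝒬 φ) {n : ℤ} {z : M ⊗[k] N}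
    (hz : z ∈ GrSeg.segrePiece k ℳ 𝒩 n) : ∃ p ∈ 𝒬 n, φ p = z := by
  rwa [← SetLike.mem_coe, ← hP.image_piece] at hz

theorem map_piece (hT : ∀ n : ℤ, (𝒯 n).map ψ.toLinearMap = GrSeg.segrePiece k 𝒜 ℬ n) {i : ℤ} {t : T}
    (ht : t ∈ 𝒯 i) : ψ t ∈ GrSeg.segrePiece k 𝒜 ℬ i := hT i ▸ ⟨t, ht, rfl⟩

theorem smul_mem_segre [SetLike.GradedSMul 𝒜 ℳ] [SetLike.GradedSMul ℬ 𝒩]
    (hT : ∀ n : ℤ, (𝒯 n).map ψ.toLinearMap = GrSeg.segrePiece k 𝒜 ℬ n)
    (hP : GrSeg.IsSegreMod ψ ℳ 𝒩 𝒬 φ) {i n : ℤ} {t : T} (ht : t ∈ 𝒯 i) {p : P} (hp : p ∈ 𝒬 n) :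
    t • p ∈ 𝒬 (i + n) := by
  rw [mem_piece_iff ℳ 𝒩 𝒬 hP, hP.map_smul]
  exact act_mem_piece 𝒜 ℬ ℳ 𝒩 (map_piece 𝒜 ℬ 𝒯 hT ht) ((mem_piece_iff ℳ 𝒩 𝒬 hP).1 hp)

end SegreMod

end Groth.Agent.GrSegLib
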